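import Cfsg.Prelude.Def_Chevalley

/-!
Isomorphic fields give isomorphic Chevalley groups.
-/

set_option autoImplicit false

namespace CfsgLib.Recognition.Transport

open Cfsg.Lie

variable {D : ChevalleyDatum} {K L : Type*} [Field K] [Field L]

theorem xMat_map (e : K →+* L) (r : Fin D.nroots) (t : K) :
    (D.xMat K r t).map e = D.xMat L r (e t) := by
  ext row col
  rw [Matrix.map_apply]
  simp only [ChevalleyDatum.xMat, Matrix.of_apply]
  rcases col with i | s
  · rcases row with i' | u
    · dsimp only; split_ifs <;> simp
    · dsimp only; split_ifs <;> simp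
  · dsimp only
    split_ifs <;> rcases row with i' | u <;> dsimp only <;> (try split_ifs) <;>
      simp [map_list_sum, List.map_map, Function.comp_def]

/-- The Chevalley groups of a datum over isomorphic fields are isomorphic. -/
theorem nonempty_group_congr (e : K ≃+* L) : Nonempty (D.group K ≃* D.group L) := by
  let φ' : GL D.Idx K →* GL D.Idx L := Matrix.GeneralLinearGroup.map e.toRingHom
  have hinj : Function.Injective φ' := by
    intro a b h
    refine Units.ext (Matrix.ext fun i j => e.injective ?_)
    have h1 : (φ' a).val i j = (φ' b).val i j := by rw [h]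
    exact h1
  have hmap : (D.group K).map φ' = D.group L := by
    rw [ChevalleyDatum.group, MonoidHom.map_closure, ChevalleyDatum.group]
    congr 1
    ext g
    constructor
    · rintro ⟨a, ⟨r, t, ha⟩, rfl⟩
      refine ⟨r, e t, ?_⟩
      show (a : Matrix D.Idx D.Idx K).map e.toRingHom = _
      rw [ha]
      exact xMat_map e.toRingHom r t
    · rintro ⟨r, t, hg⟩
      refine ⟨Matrix.GeneralLinearGroup.map e.symm.toRingHom g, ⟨r, e.symm t, ?_⟩, ?_⟩
      · show (g : Matrix D.Idx D.Idx L).map e.symm.toRingHom = _
        rw [hg]
        exact xMat_map e.symm.toRingHom r t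
      · refine Units.ext (Matrix.ext fun i j => ?_)
        show e (e.symm ((g : Matrix D.Idx D.Idx L) i j)) = _
        rw [e.apply_symm_apply]
  exact ⟨((D.group K).equivMapOfInjective φ' hinj).trans (MulEquiv.subgroupCongr hmap)⟩

end CfsgLib.Recognition.Transport
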